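import Groth.Prelude.Def_FEt
import Groth.Agent.FEtLib.EqLocus
import Mathlib

/-!
# Restriction of finite étale covers to an open: faithful iff dense, full iff clopens extend
-/

set_option autoImplicit false
set_option linter.all false
set_option backward.isDefEq.respectTransparency.types false
set_option backward.isDefEq.respectTransparency false
universe u

open CategoryTheory CategoryTheory.Limits AlgebraicGeometry TopologicalSpace

namespace Groth.Agent.Et18.DepthCover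

variable {X U : Scheme.{u}} (j : U ⟶ X) [IsOpenImmersion j]

/-- Clopens of the preimage of the open extend in every étale scheme. -/
def ExtClopen : Prop :=
  ∀ (X' : Scheme.{u}) (g : X' ⟶ X) [Etale g] (C : Set X'), C ⊆ g ⁻¹' Set.range j → IsOpen C →
    IsOpen (g ⁻¹' Set.range j \ C) → ∃ C' : Set X', IsClopen C' ∧ C' ∩ g ⁻¹' Set.range j = C

theorem etale_fold (T : Scheme.{u}) : Etale (coprod.desc (𝟙 T) (𝟙 T)) := by
  rw [IsZariskiLocalAtSource.iff_of_openCover (P := @Etale) (AlgebraicGeometry.coprodOpenCover.{_, 0} T T)]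
  rintro (a | a)
  · show Etale (coprod.inl ≫ coprod.desc (𝟙 T) (𝟙 T)); rw [coprod.inl_desc]; infer_instance
  · show Etale (coprod.inr ≫ coprod.desc (𝟙 T) (𝟙 T)); rw [coprod.inr_desc]; infer_instance

theorem dense_preimage (hd : DenseRange j) {X' : Scheme.{u}} (g : X' ⟶ X) (hg : IsOpenMap g) :
    Dense (g ⁻¹' Set.range j) :=
  Dense.preimage hd hg

variable {j} {X' : Scheme.{u}} (g : X' ⟶ X) [Etale g]

theorem restrict_map_fst {Y Z : FEt.Cat X'} (f : Y ⟶ Z) :
    ((FEt.restrict (pullback.snd j g)).map f).left ≫ pullback.fst Z.hom (pullback.snd j g) =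
      pullback.fst Y.hom (pullback.snd j g) ≫ f.left := by
  simp [FEt.restrict]

theorem range_fst_restrict (Y : FEt.Cat X') :
    Set.range (pullback.fst Y.hom (pullback.snd j g)) = (Y.hom ≫ g) ⁻¹' Set.range j := by
  rw [Scheme.Pullback.range_fst, Scheme.Pullback.range_snd]
  rfl

theorem faithful_of_dense (hd : DenseRange j) : (FEt.restrict (pullback.snd j g)).Faithful := by
  refine ⟨fun {Y Z} a b hab => ?_⟩
  haveI : IsFinite Z.hom := Z.prop.1
  haveI : Etale Z.hom := Z.prop.2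
  haveI : Etale Y.hom := Y.prop.2
  have w : a.left ≫ Z.hom = b.left ≫ Z.hom := (MorphismProperty.Over.w a).trans (MorphismProperty.Over.w b).symm
  have hr : DenseRange (pullback.fst Y.hom (pullback.snd j g)) := by
    rw [DenseRange, range_fst_restrict]
    exact dense_preimage j hd _ (Y.hom ≫ g).isOpenMap
  refine MorphismProperty.Over.Hom.ext (FEtLib.eq_of_denseRange Z.hom a.left b.left _ hr ?_ w)
  rw [← restrict_map_fst g a, ← restrict_map_fst g b, hab]

theorem full_of_ext (hd : DenseRange j) (hE : ExtClopen j) : (FEt.restrict (pullback.snd j g)).Full := by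
  refine ⟨fun {Y Z} m => ?_⟩
  haveI : IsFinite Z.hom := Z.prop.1
  haveI : Etale Z.hom := Z.prop.2
  haveI : IsFinite Y.hom := Y.prop.1
  haveI : Etale Y.hom := Y.prop.2
  let q := pullback.snd j g
  let iY := pullback.fst Y.hom q
  let k := m.left ≫ pullback.fst Z.hom q
  have hm : m.left ≫ pullback.snd Z.hom q = pullback.snd Y.hom q := MorphismProperty.Over.w m
  have hk : k ≫ Z.hom = iY ≫ Y.hom := by
    rw [Category.assoc, pullback.condition, ← Category.assoc, hm, ← pullback.condition]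
  let p1 := pullback.fst Y.hom Z.hom
  let p2 := pullback.snd Y.hom Z.hom
  let gW := p1 ≫ Y.hom ≫ g
  haveI : Etale p1 := MorphismProperty.pullback_fst _ _ ‹Etale Z.hom›
  haveI : IsFinite p1 := MorphismProperty.pullback_fst _ _ ‹IsFinite Z.hom›
  let WP : (pullback Y.hom Z.hom).Opens := p1 ⁻¹ᵁ iY.opensRange
  let ρ : WP.toScheme ⟶ _ := IsOpenImmersion.lift iY (WP.ι ≫ p1) (by
    rintro _ ⟨z, rfl⟩
    exact z.2)
  have hρ : ρ ≫ iY = WP.ι ≫ p1 := IsOpenImmersion.lift_fac _ _ _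
  have hw : (WP.ι ≫ p2) ≫ Z.hom = (ρ ≫ k) ≫ Z.hom := by
    rw [Category.assoc, Category.assoc, hk, ← Category.assoc ρ, hρ, Category.assoc, pullback.condition]
  let L := FEtLib.eqLocus Z.hom (WP.ι ≫ p2) (ρ ≫ k) hw
  have hWP : gW ⁻¹' Set.range j = (WP : Set _) := by
    ext z
    show (p1 ≫ Y.hom ≫ g) z ∈ Set.range j ↔ p1 z ∈ Set.range iY
    rw [range_fst_restrict]
    rfl
  obtain ⟨C', hC', hC'eq⟩ := hE _ gW (WP.ι '' (L : Set WP.toScheme))
    (by rw [hWP]; rintro _ ⟨z, -, rfl⟩; exact z.2)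
    (WP.ι.isOpenEmbedding.isOpenMap _ L.isOpen)
    (by
      have : gW ⁻¹' Set.range j \ WP.ι '' (L : Set WP.toScheme) = WP.ι '' (L : Set WP.toScheme)ᶜ := by
        rw [hWP, Set.compl_eq_univ_diff, Set.image_sdiff WP.ι.isOpenEmbedding.injective, Set.image_univ,
          Scheme.Opens.range_ι]
      rw [this]
      exact WP.ι.isOpenEmbedding.isOpenMap _ (FEtLib.isClosed_eqLocus _ _ _ hw).isOpen_compl)
  let V : (pullback Y.hom Z.hom).Opens := ⟨C', hC'.isOpen⟩
  haveI : IsClosedImmersion V.ι := .of_isPreimmersion _ (by rw [Scheme.Opens.range_ι]; exact hC'.isClosed)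
  let p := V.ι ≫ p1
  have key : ∀ {T : Scheme.{u}} (a : T ⟶ V.toScheme) (t : T ⟶ pullback Y.hom q), a ≫ p = t ≫ iY →
      a ≫ V.ι ≫ p2 = t ≫ k := by
    intro T a t hat
    have hsub : Set.range (a ≫ V.ι) ⊆ Set.range WP.ι := by
      rw [Scheme.Opens.range_ι]
      rintro _ ⟨z, rfl⟩
      show p1 ((a ≫ V.ι) z) ∈ Set.range iY
      rw [← Scheme.Hom.comp_apply, Category.assoc, hat, Scheme.Hom.comp_apply]
      exact ⟨_, rfl⟩
    let l := IsOpenImmersion.lift WP.ι (a ≫ V.ι) hsub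
    have hl : l ≫ WP.ι = a ≫ V.ι := IsOpenImmersion.lift_fac _ _ _
    have hlL : Set.range l ⊆ Set.range L.ι := by
      rw [Scheme.Opens.range_ι]
      rintro _ ⟨z, rfl⟩
      have hz : WP.ι (l z) ∈ C' ∩ gW ⁻¹' Set.range j := by
        refine ⟨?_, hWP.ge (l z).2⟩
        rw [← Scheme.Hom.comp_apply, hl, Scheme.Hom.comp_apply]
        exact (a z).2
      rw [hC'eq] at hz
      obtain ⟨z', hz', e⟩ := hz
      exact WP.ι.isOpenEmbedding.injective e ▸ hz'
    have hlL' : l ≫ WP.ι ≫ p2 = l ≫ ρ ≫ k := by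
      rw [← IsOpenImmersion.lift_fac L.ι l hlL, Category.assoc, Category.assoc,
        FEtLib.ι_comp_eq Z.hom (WP.ι ≫ p2) (ρ ≫ k) hw]
    have hlt : l ≫ ρ = t := by
      rw [← cancel_mono iY, Category.assoc, hρ, ← Category.assoc, hl, Category.assoc]
      exact hat
    rw [← Category.assoc a, ← hl, Category.assoc, hlL', ← Category.assoc, hlt]
  haveI : Mono p := by
    refine ⟨fun {T} a b hab => ?_⟩
    let a₀ := pullback.fst p p
    let b₀ := pullback.snd p p
    have e : a₀ = b₀ := by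
      have h1 : a₀ ≫ p = b₀ ≫ p := pullback.condition
      rw [← cancel_mono V.ι]
      refine pullback.hom_ext (by simpa [p, p1] using h1) ?_
      let d := pullback.fst (a₀ ≫ p) iY
      have hd' : DenseRange d := by
        rw [DenseRange, Scheme.Pullback.range_fst, range_fst_restrict]
        haveI : Etale a₀ := MorphismProperty.pullback_fst _ _ (inferInstanceAs (Etale (V.ι ≫ p1)))
        haveI : Etale p := inferInstanceAs (Etale (V.ι ≫ p1))
        exact dense_preimage j hd ((a₀ ≫ p) ≫ Y.hom ≫ g) (((a₀ ≫ p) ≫ Y.hom ≫ g).isOpenMap)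
      have hab' : (a₀ ≫ V.ι ≫ p2) ≫ Z.hom = (b₀ ≫ V.ι ≫ p2) ≫ Z.hom := by
        simp only [Category.assoc, p2, ← pullback.condition]
        exact (by simpa [p, p1] using congrArg (· ≫ Y.hom) h1)
      simp only [Category.assoc]
      refine FEtLib.eq_of_denseRange Z.hom _ _ d hd' ?_ hab'
      refine (Category.assoc d a₀ _).symm.trans (((key (d ≫ a₀) (pullback.snd (a₀ ≫ p) iY)
        ((Category.assoc _ _ _).trans pullback.condition)).trans ?_).trans (Category.assoc d b₀ _))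
      exact (key (d ≫ b₀) (pullback.snd (a₀ ≫ p) iY)
        ((Category.assoc _ _ _).trans ((congrArg (d ≫ ·) h1.symm).trans pullback.condition))).symm
    rw [← pullback.lift_fst a b hab]
    show pullback.lift a b hab ≫ a₀ = b
    rw [e]
    exact pullback.lift_snd a b hab
  haveI : IsFinite p := inferInstanceAs (IsFinite (V.ι ≫ p1))
  haveI : Etale p := inferInstanceAs (Etale (V.ι ≫ p1))
  let γ : pullback Y.hom q ⟶ pullback Y.hom Z.hom := pullback.lift iY k hk.symm
  have hγ : Set.range γ ⊆ Set.range V.ι := by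
    rw [Scheme.Opens.range_ι]
    rintro _ ⟨y, rfl⟩
    have h1 : γ y ∈ WP := by
      show p1 (γ y) ∈ Set.range iY
      rw [← Scheme.Hom.comp_apply, pullback.lift_fst]
      exact ⟨y, rfl⟩
    let γ' := IsOpenImmersion.lift WP.ι γ (by
      rw [Scheme.Opens.range_ι]
      rintro _ ⟨z, rfl⟩
      show p1 (γ z) ∈ Set.range iY
      rw [← Scheme.Hom.comp_apply, pullback.lift_fst]
      exact ⟨z, rfl⟩)
    have hγ' : γ' ≫ WP.ι = γ := IsOpenImmersion.lift_fac _ _ _
    have : γ' ≫ WP.ι ≫ p2 = γ' ≫ ρ ≫ k := by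
      rw [← Category.assoc, hγ', pullback.lift_snd, ← Category.assoc]
      have : γ' ≫ ρ = 𝟙 _ := by
        rw [← cancel_mono iY, Category.assoc, hρ, ← Category.assoc, hγ', pullback.lift_fst, Category.id_comp]
      rw [this, Category.id_comp]
    have hmem := FEtLib.mem_of_comp_eq Z.hom (WP.ι ≫ p2) (ρ ≫ k) hw γ' this y
    have : γ y ∈ C' ∩ gW ⁻¹' Set.range j := by
      rw [hC'eq]
      exact ⟨γ' y, hmem, by rw [← Scheme.Hom.comp_apply, hγ']⟩
    exact this.1
  let γV := IsOpenImmersion.lift V.ι γ hγ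
  have hγV : γV ≫ p = iY := by
    rw [← Category.assoc, IsOpenImmersion.lift_fac, pullback.lift_fst]
  haveI : IsOpenImmersion p := IsOpenImmersion.of_flat_of_mono p
  haveI : Surjective p := by
    refine ⟨fun y => ?_⟩
    have hcl : IsClosed (Set.range p) := p.isClosedMap.isClosed_range
    have hsub : Set.range iY ⊆ Set.range p := by
      rintro _ ⟨z, rfl⟩
      exact ⟨γV z, by rw [← Scheme.Hom.comp_apply, hγV]⟩
    have hdY : Dense (Set.range iY) := by
      rw [range_fst_restrict]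
      exact dense_preimage j hd _ (Y.hom ≫ g).isOpenMap
    exact closure_minimal hsub hcl (hdY y)
  haveI : Epi p.base := (TopCat.epi_iff_surjective _).mpr p.surjective
  haveI : IsIso p := IsOpenImmersion.isIso p
  have hφ : (inv p ≫ V.ι ≫ p2) ≫ Z.hom = Y.hom := by
    rw [Category.assoc, IsIso.inv_comp_eq]
    simp [p, p1, p2, pullback.condition]
  let φ : Y ⟶ Z := MorphismProperty.Over.homMk (inv p ≫ V.ι ≫ p2) hφ trivial
  refine ⟨φ, MorphismProperty.Over.Hom.ext ?_⟩
  refine pullback.hom_ext ?_ ?_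
  · rw [restrict_map_fst]
    show iY ≫ inv p ≫ V.ι ≫ p2 = k
    rw [← hγV, Category.assoc, IsIso.hom_inv_id_assoc, ← Category.assoc, IsOpenImmersion.lift_fac, pullback.lift_snd]
  · exact (MorphismProperty.Over.w ((FEt.restrict q).map φ)).trans hm.symm

theorem dense_of_faithful
    (h : ∀ (X' : Scheme.{u}) (g : X' ⟶ X) [Etale g], (FEt.restrict (pullback.snd j g)).Faithful) :
    DenseRange j := by
  rw [DenseRange, dense_iff_inter_open]
  intro O hO hne
  by_contra hemp
  let V : X.Opens := ⟨O, hO⟩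
  haveI := h V.toScheme V.ι
  haveI : IsEmpty ↥(pullback j V.ι) := ⟨fun z => hemp ⟨j (pullback.fst j V.ι z), by
    rw [← Scheme.Hom.comp_apply, pullback.condition, Scheme.Hom.comp_apply]
    exact (pullback.snd j V.ι z).2, ⟨_, rfl⟩⟩⟩
  let Y : FEt.Cat V.toScheme := MorphismProperty.Over.mk ⊤ (𝟙 _) ⟨inferInstance, inferInstance⟩
  let Z : FEt.Cat V.toScheme := MorphismProperty.Over.mk ⊤ (coprod.desc (𝟙 _) (𝟙 _))
    ⟨inferInstance, etale_fold _⟩
  let a : Y ⟶ Z := MorphismProperty.Over.homMk coprod.inl (coprod.inl_desc _ _) trivial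
  let b : Y ⟶ Z := MorphismProperty.Over.homMk coprod.inr (coprod.inr_desc _ _) trivial
  haveI : IsEmpty ↥((FEt.restrict (pullback.snd j V.ι)).obj Y).left :=
    Function.isEmpty (pullback.snd Y.hom (pullback.snd j V.ι))
  have hab : a = b := (FEt.restrict (pullback.snd j V.ι)).map_injective (MorphismProperty.Over.Hom.ext
    (isInitialOfIsEmpty.hom_ext _ _))
  obtain ⟨x, hx⟩ := hne
  have := congrArg (fun f : Y ⟶ Z => f.left (⟨x, hx⟩ : V.toScheme)) hab
  exact Set.disjoint_iff_forall_ne.mp (isCompl_range_inl_inr V.toScheme V.toScheme).disjoint ⟨_, rfl⟩ ⟨_, rfl⟩ this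

theorem extClopen_of_full
    (h : ∀ (X' : Scheme.{u}) (g : X' ⟶ X) [Etale g], (FEt.restrict (pullback.snd j g)).Full) :
    ExtClopen j := by
  intro X' g _ C hC hCo hDo
  haveI := h X' g
  let q := pullback.snd j g
  have hq : Set.range q = g ⁻¹' Set.range j := Scheme.Pullback.range_snd j g
  let Cp : (pullback j g).Opens := q ⁻¹ᵁ ⟨C, hCo⟩
  let Dp : (pullback j g).Opens := q ⁻¹ᵁ ⟨_, hDo⟩
  have hcomp : IsCompl Cp.ι.opensRange Dp.ι.opensRange := by
    rw [Scheme.Opens.opensRange_ι, Scheme.Opens.opensRange_ι]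
    refine IsCompl.of_eq (eq_bot_iff.2 fun z hz => hz.2.2 hz.1) (eq_top_iff.2 fun z _ => ?_)
    by_cases hz : q z ∈ C
    · exact Or.inl hz
    · exact Or.inr ⟨hq.le ⟨z, rfl⟩, hz⟩
  obtain ⟨hcol⟩ := nonempty_isColimit_binaryCofanMk_of_isCompl Cp.ι Dp.ι hcomp
  let k : pullback j g ⟶ X' ⨿ X' := hcol.desc (BinaryCofan.mk (Cp.ι ≫ q ≫ coprod.inl) (Dp.ι ≫ q ≫ coprod.inr))
  have hkC : Cp.ι ≫ k = Cp.ι ≫ q ≫ coprod.inl := hcol.fac _ ⟨WalkingPair.left⟩
  have hkD : Dp.ι ≫ k = Dp.ι ≫ q ≫ coprod.inr := hcol.fac _ ⟨WalkingPair.right⟩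
  have hk : k ≫ coprod.desc (𝟙 _) (𝟙 _) = q := by
    refine BinaryCofan.IsColimit.hom_ext hcol ?_ ?_
    · show Cp.ι ≫ k ≫ _ = Cp.ι ≫ q
      rw [← Category.assoc, hkC]; simp
    · show Dp.ι ≫ k ≫ _ = Dp.ι ≫ q
      rw [← Category.assoc, hkD]; simp
  let Y : FEt.Cat X' := MorphismProperty.Over.mk ⊤ (𝟙 _) ⟨inferInstance, inferInstance⟩
  let Z : FEt.Cat X' := MorphismProperty.Over.mk ⊤ (coprod.desc (𝟙 _) (𝟙 _))
    ⟨inferInstance, etale_fold _⟩
  let m : (FEt.restrict q).obj Y ⟶ (FEt.restrict q).obj Z :=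
    MorphismProperty.Over.homMk
      (pullback.lift (pullback.snd Y.hom q ≫ k) (pullback.snd Y.hom q) (by rw [Category.assoc]; exact congrArg _ hk))
      (pullback.lift_snd _ _ _) trivial
  obtain ⟨φ, hφ⟩ := (FEt.restrict q).map_surjective m
  let s : X' ⟶ X' ⨿ X' := φ.left
  have hsk : q ≫ s = k := by
    have h1 := congrArg (fun f => f.left ≫ pullback.fst Z.hom q) hφ
    rw [restrict_map_fst] at h1
    have h2 : pullback.fst Y.hom q ≫ s = pullback.snd Y.hom q ≫ k := h1.trans (pullback.lift_fst _ _ _)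
    have hh : q ≫ Y.hom = 𝟙 _ ≫ q := (Category.comp_id q).trans (Category.id_comp q).symm
    have h3 := congrArg (pullback.lift (f := Y.hom) (g := q) q (𝟙 _) hh ≫ ·) h2
    exact (pullback.lift_fst_assoc _ _ hh s).symm.trans (h3.trans
      ((pullback.lift_snd_assoc _ _ hh k).trans (Category.id_comp k)))
  refine ⟨s ⁻¹' Set.range (coprod.inl : X' ⟶ X' ⨿ X'), ⟨?_, ?_⟩, ?_⟩
  · refine IsClosed.preimage s.continuous ?_
    rw [← isOpen_compl_iff, (isCompl_range_inl_inr X' X').compl_eq]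
    exact (coprod.inr : X' ⟶ X' ⨿ X').isOpenEmbedding.isOpen_range
  · exact (coprod.inl : X' ⟶ X' ⨿ X').isOpenEmbedding.isOpen_range.preimage s.continuous
  ext x
  constructor
  · rintro ⟨hx, hxj⟩
    obtain ⟨z, rfl⟩ := hq.ge hxj
    by_contra hxC
    have hz : z ∈ Dp := ⟨hxj, hxC⟩
    have e : s (q z) = (coprod.inr : X' ⟶ X' ⨿ X') (q z) := by
      rw [← Scheme.Hom.comp_apply, hsk]
      exact (congrArg (fun f : Dp.toScheme ⟶ X' ⨿ X' => f ⟨z, hz⟩) hkD :)
    rw [Set.mem_preimage, e] at hx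
    obtain ⟨x', hx'⟩ := hx
    exact Set.disjoint_iff_forall_ne.mp (isCompl_range_inl_inr X' X').disjoint ⟨_, rfl⟩ ⟨_, rfl⟩ hx'
  · intro hx
    obtain ⟨z, rfl⟩ := hq.ge (hC hx)
    refine ⟨⟨q z, ?_⟩, hC hx⟩
    rw [← Scheme.Hom.comp_apply q s, hsk]
    exact (congrArg (fun f : Cp.toScheme ⟶ X' ⨿ X' => f ⟨z, hx⟩) hkC :).symm

end Groth.Agent.Et18.DepthCover
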