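import Groth.Agent.Et18.DepthCover.Cover
import Groth.Agent.Et18.UnitConst
import Groth.Agent.Et18.LocCoh.DepthRestr
import Groth.Agent.EtUnitLib.ConstVal
import Groth.Agent.Et18.LocCohShift

/-!
# Étale depth one and two of constant sheaves: density and extension of clopens
-/

set_option autoImplicit false
set_option linter.all false
set_option backward.isDefEq.respectTransparency.types false
set_option backward.isDefEq.respectTransparency false
universe u

open CategoryTheory CategoryTheory.Limits AlgebraicGeometry Opposite TopologicalSpace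
open Groth.Agent.Et18 Groth.Agent.EtUnitLib

namespace Groth.Agent.Et18.DepthCover

variable {X U : Scheme.{u}} (j : U ⟶ X) [IsOpenImmersion j]

theorem depthGE_two_iff [EtCoh.BCCont j] (F : EtCoh.Ab X) :
    EtDepth.DepthGE j F 2 ↔ IsIso (EtDual.unitApp j F) := by
  suffices hm : Mono (EtDual.unitApp j F) → (EtDepth.DepthGE j F 2 ↔ IsIso (EtDual.unitApp j F)) from
    ⟨fun h => (hm ((LocCoh.depthGE_one_iff j F).1 fun p hp => h p (by omega))).1 h,
      fun h => (hm inferInstance).2 h⟩
  intro hmono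
  haveI : EtShriek.JCont j := Et18.jCont j
  haveI : PreservesFiniteLimits (EtCoh.pull j) := inferInstance
  let adj := EtCoh.pullPushAdj j
  let J := Injective.under ((EtCoh.pull j).obj F)
  let I := (EtCoh.push j).obj J
  haveI : Injective I := Injective.injective_of_adjoint adj J
  haveI : (EtCoh.push j).IsRightAdjoint := ⟨_, ⟨adj⟩⟩
  let u : F ⟶ I := EtDual.unitApp j F ≫ (EtCoh.push j).map (Injective.ι _)
  haveI : Mono u := mono_comp _ _
  have hmI : Mono (EtDual.unitApp j I) :=
    SplitMono.mono ⟨(EtCoh.push j).map (adj.counit.app J), adj.right_triangle_components J⟩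
  haveI := LocCohShift.epi_unit j I
  haveI : IsIso (EtDual.unitApp j I) := isIso_of_mono_of_epi _
  let S := ShortComplex.mk u (cokernel.π u) (cokernel.condition u)
  have hS : S.ShortExact := { exact := ShortComplex.exact_of_g_is_cokernel S (cokernelIsCokernel u) }
  haveI : Injective S.X₂ := ‹Injective I›
  rw [LocCoh.depthGE_succ_iff j hS hmono hmI 1, LocCoh.depthGE_one_iff]
  let P := EtCoh.pull j ⋙ EtCoh.push j
  let η : ∀ G : EtCoh.Ab X, G ⟶ P.obj G := fun G => EtDual.unitApp j G
  have nf : S.f ≫ η S.X₂ = η S.X₁ ≫ P.map S.f := adj.unit.naturality S.f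
  have ng : S.g ≫ η S.X₃ = η S.X₂ ≫ P.map S.g := adj.unit.naturality S.g
  haveI : PreservesFiniteLimits P := comp_preservesFiniteLimits _ _
  haveI : P.PreservesZeroMorphisms := inferInstanceAs ((EtCoh.pull j ⋙ EtCoh.push j).PreservesZeroMorphisms)
  haveI : Mono S.f := hS.mono_f
  haveI : Mono (P.map S.f) := P.map_mono S.f
  haveI : Epi S.g := hS.epi_g
  have hex : (S.map P).Exact := hS.exact.map_of_mono_of_preservesKernel P inferInstance inferInstance
  haveI : Mono (S.map P).f := ‹Mono (P.map S.f)›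
  constructor
  · intro hC
    haveI : Mono (η S.X₃) := hC
    haveI : IsIso (η S.X₂) := ‹IsIso (EtDual.unitApp j I)›
    let b : P.obj S.X₁ ⟶ S.X₂ := P.map S.f ≫ inv (η S.X₂)
    have hb : b ≫ S.g = 0 := by
      rw [← cancel_mono (η S.X₃), zero_comp, Category.assoc, ng, Category.assoc, IsIso.inv_hom_id_assoc,
        ← P.map_comp, S.zero, P.map_zero]
    obtain ⟨q, hq⟩ : ∃ q, q ≫ S.f = b := ⟨hS.exact.lift b hb, hS.exact.lift_f b hb⟩
    have hq1 : q ≫ η S.X₁ = 𝟙 _ := by
      rw [← cancel_mono (P.map S.f), Category.assoc, ← nf, ← Category.assoc, hq, Category.assoc,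
        IsIso.inv_hom_id, Category.comp_id, Category.id_comp]
    haveI : Epi (η S.X₁) := SplitEpi.epi ⟨q, hq1⟩
    haveI : Mono (η S.X₁) := hmono
    exact (isIso_of_mono_of_epi (η S.X₁) :)
  · intro hF
    haveI : IsIso (η S.X₁) := hF
    haveI : IsIso (η S.X₂) := ‹IsIso (EtDual.unitApp j I)›
    show Mono (η S.X₃)
    refine Preadditive.mono_of_cancel_zero _ fun {T} a ha => ?_
    obtain ⟨T', π, hπ, p, hp⟩ := surjective_up_to_refinements_of_epi S.g a
    have h0 : (p ≫ η S.X₂) ≫ P.map S.g = 0 := by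
      rw [Category.assoc, ← ng, ← Category.assoc, ← hp, Category.assoc, ha, comp_zero]
    obtain ⟨q, hq⟩ : ∃ q, q ≫ P.map S.f = p ≫ η S.X₂ := ⟨hex.lift _ h0, hex.lift_f _ h0⟩
    have : p = (q ≫ inv (η S.X₁)) ≫ S.f := by
      rw [← cancel_mono (η S.X₂), Category.assoc, nf, Category.assoc, IsIso.inv_hom_id_assoc, hq]
    rw [← cancel_epi π, hp, this, Category.assoc, S.zero, comp_zero, comp_zero]

variable (A : AddCommGrpCat.{u + 1})

noncomputable abbrev fstU (W : X.Etale) : ((EtCoh.bc j).obj W).left ⟶ W.left := pullback.fst W.hom j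

theorem range_fstU (W : X.Etale) : Set.range (fstU j W) = W.hom ⁻¹' Set.range j :=
  Scheme.Pullback.range_fst _ _

theorem val_psi (W : X.Etale) (s : EtCoh.sect ((cst X).obj A) W) (v : ((EtCoh.bc j).obj W).left) :
    val ((UnitConst.psi j A).hom.app (op W) s) v = val s (fstU j W v) := by
  obtain ⟨W', a, w, hw, hs⟩ := hasVal_val s (fstU j W v)
  have hcond : W'.hom w = j (pullback.snd W.hom j v) :=
    (congrArg (fun f : W'.left ⟶ X => f w) (MorphismProperty.Over.w a)).symm.trans
      ((congrArg W.hom hw).trans (congrArg (fun f : ((EtCoh.bc j).obj W).left ⟶ X => f v) pullback.condition))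
  obtain ⟨z, hz, -⟩ := Scheme.Pullback.exists_preimage_pullback (f := W'.hom) (g := j) w _ hcond
  have hzv : ((EtCoh.bc j).map a).left z = v := by
    haveI : IsOpenImmersion (fstU j W) := inferInstanceAs (IsOpenImmersion (pullback.fst W.hom j))
    apply (fstU j W).isOpenEmbedding.injective
    have e : ((EtCoh.bc j).map a).left ≫ fstU j W = fstU j W' ≫ a.left := by simp [EtCoh.bc, fstU]
    rw [← Scheme.Hom.comp_apply, e, Scheme.Hom.comp_apply]
    exact (congrArg a.left hz).trans hw
  refine HasVal.val_eq ⟨_, (EtCoh.bc j).map a, z, hzv, ?_⟩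
  have h1 := ConcreteCategory.congr_hom ((UnitConst.psi j A).hom.naturality a.op) s
  refine h1.symm.trans ?_
  show (UnitConst.psi j A).hom.app (op W') (((cst X).obj A).obj.map a.op s) = _
  rw [hs]
  exact ConcreteCategory.congr_hom (UnitConst.cstSec_psi j A W') _

theorem mono_unit_iff :
    Mono (EtDual.unitApp j ((cst X).obj A)) ↔
      ∀ W : X.Etale, Function.Injective ((UnitConst.psi j A).hom.app (op W)) := by
  have hp : UnitConst.psi j A = EtDual.unitApp j ((cst X).obj A) ≫
      (EtCoh.push j).map ((EtCore.pullConstIso j).app A).hom := Adjunction.homEquiv_unit ..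
  constructor
  · intro h W
    haveI : Mono (UnitConst.psi j A) := hp ▸ mono_comp _ _
    haveI : Mono ((sheafToPresheaf _ _).map (UnitConst.psi j A)) := (sheafToPresheaf _ _).map_mono _
    exact (AddCommGrpCat.mono_iff_injective _).1
      (inferInstanceAs (Mono (((sheafToPresheaf _ _).map (UnitConst.psi j A)).app (op W))))
  · intro h
    haveI : Mono (UnitConst.psi j A) := by
      haveI : ∀ W, Mono ((UnitConst.psi j A).hom.app W) := fun W => (AddCommGrpCat.mono_iff_injective _).2 (h W.unop)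
      haveI : Mono ((sheafToPresheaf _ _).map (UnitConst.psi j A)) :=
        NatTrans.mono_of_mono_app (UnitConst.psi j A).hom
      exact (sheafToPresheaf _ _).mono_of_mono_map this
    haveI : Mono (EtDual.unitApp j ((cst X).obj A) ≫ (EtCoh.push j).map ((EtCore.pullConstIso j).app A).hom) :=
      hp ▸ ‹Mono (UnitConst.psi j A)›
    exact mono_of_mono _ ((EtCoh.push j).map ((EtCore.pullConstIso j).app A).hom)

theorem isIso_unit_iff :
    IsIso (EtDual.unitApp j ((cst X).obj A)) ↔
      ∀ W : X.Etale, Function.Bijective ((UnitConst.psi j A).hom.app (op W)) := by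
  have hp : UnitConst.psi j A = EtDual.unitApp j ((cst X).obj A) ≫
      (EtCoh.push j).map ((EtCore.pullConstIso j).app A).hom := Adjunction.homEquiv_unit ..
  constructor
  · intro h W
    haveI : IsIso (UnitConst.psi j A) := hp ▸ IsIso.comp_isIso' h inferInstance
    exact (ConcreteCategory.isIso_iff_bijective _).1
      (inferInstanceAs (IsIso (((sheafToPresheaf _ _).map (UnitConst.psi j A)).app (op W))))
  · intro h
    haveI : IsIso (UnitConst.psi j A) := by
      haveI : ∀ W, IsIso ((UnitConst.psi j A).hom.app W) := fun W => (ConcreteCategory.isIso_iff_bijective _).2 (h W.unop)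
      haveI : IsIso ((sheafToPresheaf _ _).map (UnitConst.psi j A)) :=
        NatIso.isIso_of_isIso_app (UnitConst.psi j A).hom
      exact isIso_of_reflects_iso (UnitConst.psi j A) (sheafToPresheaf _ _)
    haveI : IsIso (EtDual.unitApp j ((cst X).obj A) ≫ (EtCoh.push j).map ((EtCore.pullConstIso j).app A).hom) :=
      hp ▸ ‹IsIso (UnitConst.psi j A)›
    exact IsIso.of_isIso_comp_right _ ((EtCoh.push j).map ((EtCore.pullConstIso j).app A).hom)

theorem injective_psi_of_dense (hd : DenseRange j) (W : X.Etale) :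
    Function.Injective ((UnitConst.psi j A).hom.app (op W)) := by
  haveI : Etale W.hom := W.prop
  intro s t h
  refine ext_val fun y => ?_
  have ho : IsOpen (val s ⁻¹' {val s y} ∩ val t ⁻¹' {val t y}) :=
    ((isLocallyConstant_val s).isOpen_fiber _).inter ((isLocallyConstant_val t).isOpen_fiber _)
  obtain ⟨z, ⟨hz1, hz2⟩, hz⟩ := (dense_preimage j hd W.hom W.hom.isOpenMap).inter_open_nonempty _ ho ⟨y, rfl, rfl⟩
  obtain ⟨v, rfl⟩ := (range_fstU j W).ge hz
  have e : val s (fstU j W v) = val t (fstU j W v) := by rw [← val_psi, ← val_psi, h]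
  exact (hz1.symm.trans e).trans hz2

theorem dense_of_injective_psi [Nontrivial A]
    (h : ∀ W : X.Etale, Function.Injective ((UnitConst.psi j A).hom.app (op W))) : DenseRange j := by
  rw [DenseRange, dense_iff_inter_open]
  intro O hO hne
  by_contra hemp
  let V : X.Opens := ⟨O, hO⟩
  let W : X.Etale := Scheme.Etale.mk V.ι
  obtain ⟨x, hx⟩ := hne
  obtain ⟨a, b, hab⟩ := exists_pair_ne A
  refine hab ?_
  have e : cstSec A W a = cstSec A W b := h W (ext_val fun v => absurd (⟨j (pullback.snd W.hom j v),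
    (by
      have : W.hom (fstU j W v) ∈ V := (fstU j W v : V.toScheme).2
      rw [← Scheme.Hom.comp_apply, ← pullback.condition, Scheme.Hom.comp_apply]
      exact this), ⟨_, rfl⟩⟩ : (O ∩ Set.range j).Nonempty) hemp)
  rw [← val_cstSec (A := A) W a (⟨x, hx⟩ : V.toScheme), e, val_cstSec]

theorem surjective_psi_of_ext [Finite A] (hd : DenseRange j) (hE : ExtClopen j) (W : X.Etale) :
    Function.Surjective ((UnitConst.psi j A).hom.app (op W)) := by
  classical
  intro t
  haveI : Etale W.hom := W.prop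
  let O : Set W.left := W.hom ⁻¹' Set.range j
  have hO : Set.range (fstU j W) = O := range_fstU j W
  haveI : IsOpenImmersion (fstU j W) := inferInstanceAs (IsOpenImmersion (pullback.fst W.hom j))
  let t' : EtCoh.sect ((cst U).obj A) ((EtCoh.bc j).obj W) := t
  have hext : ∀ a : A, ∃ C' : Set W.left, IsClopen C' ∧ C' ∩ O = fstU j W '' (val t' ⁻¹' {a}) := by
    intro a
    refine hE W.left W.hom _ ?_ ((fstU j W).isOpenEmbedding.isOpenMap _ ((isLocallyConstant_val t').isOpen_fiber a)) ?_
    · rintro _ ⟨v, -, rfl⟩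
      exact hO.le ⟨v, rfl⟩
    · have : O \ fstU j W '' (val t' ⁻¹' {a}) = fstU j W '' (val t' ⁻¹' {a})ᶜ := by
        rw [← hO, Set.compl_eq_univ_diff, Set.image_sdiff (fstU j W).isOpenEmbedding.injective, Set.image_univ]
      show IsOpen (O \ _)
      rw [this]
      exact (fstU j W).isOpenEmbedding.isOpenMap _ ((isLocallyConstant_val t').isClopen_fiber a).compl.isOpen
  choose C hC hCO using hext
  have hdW : Dense O := dense_preimage j hd W.hom W.hom.isOpenMap
  have hdisj : ∀ a b, a ≠ b → ∀ y, y ∈ C a → y ∈ C b → False := by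
    intro a b hab y ha hb
    obtain ⟨z, ⟨hza, hzb⟩, hz⟩ := hdW.inter_open_nonempty _ ((hC a).isOpen.inter (hC b).isOpen) ⟨y, ha, hb⟩
    obtain ⟨v, hv, e⟩ := (hCO a).le ⟨hza, hz⟩
    obtain ⟨v', hv', e'⟩ := (hCO b).le ⟨hzb, hz⟩
    rw [(fstU j W).isOpenEmbedding.injective (e'.trans e.symm)] at hv'
    exact hab (hv.symm.trans hv')
  have hcov : ∀ y, ∃ a, y ∈ C a := by
    intro y
    have hsub : O ⊆ ⋃ a, C a := by
      intro z hz
      obtain ⟨v, rfl⟩ := hO.ge hz
      exact Set.mem_iUnion.2 ⟨val t' v, ((hCO _).ge ⟨v, rfl, rfl⟩).1⟩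
    exact Set.mem_iUnion.1 (closure_minimal hsub (isClosed_iUnion_of_finite fun a => (hC a).isClosed) (hdW y))
  choose f hf using hcov
  have hlc : IsLocallyConstant f := (IsLocallyConstant.iff_exists_open f).2 fun y =>
    ⟨C (f y), (hC _).isOpen, hf y, fun z hz => by_contra fun hne => hdisj _ _ hne z (hf z) hz⟩
  obtain ⟨s, hs⟩ := exists_val_eq (A := A) hlc
  refine ⟨s, ext_val fun v => (val_psi j A W s v).trans ((hs _).trans ?_)⟩
  exact by_contra fun hne => hdisj _ _ hne _ (hf _) ((hCO (val t' v)).ge ⟨v, rfl, rfl⟩).1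

theorem ext_of_surjective_psi [Nontrivial A]
    (h : ∀ W : X.Etale, Function.Surjective ((UnitConst.psi j A).hom.app (op W))) : ExtClopen j := by
  classical
  intro X' g _ C hC hCo hDo
  let W : X.Etale := Scheme.Etale.mk g
  obtain ⟨a, b, hab⟩ := exists_pair_ne A
  have hO : Set.range (fstU j W) = g ⁻¹' Set.range j := range_fstU j W
  let f : ((EtCoh.bc j).obj W).left → A := fun v => if fstU j W v ∈ C then a else b
  have hlc : IsLocallyConstant f := by
    refine (IsLocallyConstant.iff_exists_open f).2 fun v => ?_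
    by_cases hv : fstU j W v ∈ C
    · exact ⟨fstU j W ⁻¹' C, hCo.preimage (fstU j W).continuous, hv, fun z hz => by
        simp only [f, if_pos hv, if_pos (show fstU j W z ∈ C from hz)]⟩
    · exact ⟨fstU j W ⁻¹' (g ⁻¹' Set.range j \ C), hDo.preimage (fstU j W).continuous, ⟨hO.le ⟨v, rfl⟩, hv⟩,
        fun z hz => by simp only [f, if_neg hv, if_neg hz.2]⟩
  obtain ⟨t, ht⟩ := exists_val_eq (A := A) hlc
  obtain ⟨s, hs⟩ := h W t
  refine ⟨val s ⁻¹' {a}, (isLocallyConstant_val s).isClopen_fiber a, ?_⟩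
  have key : ∀ v, val s (fstU j W v) = f v := fun v => by rw [← val_psi, hs, ht]
  ext y
  constructor
  · rintro ⟨hy, hyO⟩
    obtain ⟨v, rfl⟩ := hO.ge hyO
    have := (key v).symm.trans hy
    by_contra hv
    simp only [f, if_neg hv] at this
    exact hab this.symm
  · intro hy
    obtain ⟨v, rfl⟩ := hO.ge (hC hy)
    exact ⟨(key v).trans (if_pos hy), hC hy⟩

theorem result_iff [EtCoh.BCCont j] :
    ((∀ ℓ : ℕ, ℓ.Prime → EtDepth.DepthGE j (EtCoh.const X (ZMod ℓ)) 1) ↔
      ∀ (X' : Scheme.{u}) (g : X' ⟶ X) [Etale g], (FEt.restrict (pullback.snd j g)).Faithful) ∧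
    ((∀ ℓ : ℕ, ℓ.Prime → EtDepth.DepthGE j (EtCoh.const X (ZMod ℓ)) 2) ↔
      ∀ (X' : Scheme.{u}) (g : X' ⟶ X) [Etale g],
        (FEt.restrict (pullback.snd j g)).Full ∧ (FEt.restrict (pullback.snd j g)).Faithful) := by
  let A : ℕ → AddCommGrpCat.{u + 1} := fun ℓ => AddCommGrpCat.of (ULift.{u + 1} (ZMod ℓ))
  haveI : Nontrivial (A 2) := inferInstanceAs (Nontrivial (ULift (ZMod 2)))
  have h1 : ∀ ℓ, EtDepth.DepthGE j (EtCoh.const X (ZMod ℓ)) 1 ↔
      ∀ W : X.Etale, Function.Injective ((UnitConst.psi j (A ℓ)).hom.app (op W)) := fun ℓ =>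
    (LocCoh.depthGE_one_iff j _).trans (mono_unit_iff j (A ℓ))
  have h2 : ∀ ℓ, EtDepth.DepthGE j (EtCoh.const X (ZMod ℓ)) 2 ↔
      ∀ W : X.Etale, Function.Bijective ((UnitConst.psi j (A ℓ)).hom.app (op W)) := fun ℓ =>
    (depthGE_two_iff j _).trans (isIso_unit_iff j (A ℓ))
  have hfin : ∀ ℓ, ℓ.Prime → Finite (A ℓ) := fun ℓ hℓ => by
    haveI : NeZero ℓ := ⟨hℓ.ne_zero⟩
    exact inferInstanceAs (Finite (ULift (ZMod ℓ)))
  refine ⟨⟨fun h X' g _ => ?_, fun h ℓ _ => ?_⟩, ⟨fun h X' g _ => ?_, fun h ℓ hℓ => ?_⟩⟩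
  · exact faithful_of_dense g (dense_of_injective_psi j (A 2) ((h1 2).1 (h 2 Nat.prime_two)))
  · exact (h1 ℓ).2 (injective_psi_of_dense j (A ℓ) (dense_of_faithful h))
  · have hb := (h2 2).1 (h 2 Nat.prime_two)
    have hd := dense_of_injective_psi j (A 2) fun W => (hb W).1
    exact ⟨full_of_ext g hd (ext_of_surjective_psi j (A 2) fun W => (hb W).2), faithful_of_dense g hd⟩
  · haveI := hfin ℓ hℓ
    have hd := dense_of_faithful fun X' g hg => (h X' g).2
    exact (h2 ℓ).2 fun W => ⟨injective_psi_of_dense j (A ℓ) hd W,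
      surjective_psi_of_ext j (A ℓ) hd (extClopen_of_full fun X' g hg => (h X' g).1) W⟩

end Groth.Agent.Et18.DepthCover
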